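import Cfsg.Agent.H597.HT6.UGrp
import Cfsg.Agent.H753.GTwoCore

/-!
# `G₂(2) = Aut(PSU₃(3))` (helper412, box (T1) of TEAM RV)

`iso_G2_two` : a finite group `X` with a normal subgroup `K ≅ PSU₃(3)`, `C_X(K) = 1` and `64 ∣ |X|` is isomorphic to `G₂(2)`.
-/

set_option autoImplicit false

namespace Cfsg.Agent.H412.G2

open Cfsg Subgroup

universe u v w

/-- A group with a normal subgroup `K` with trivial centralizer embeds in `MulAut K`; it is `MulAut K` if the orders
agree. -/
theorem equiv_mulAut {X : Type u} [Group X] [Finite X] (K : Subgroup X) [K.Normal]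
    (hC : centralizer (K : Set X) = ⊥) (hcard : Nat.card (MulAut K) ≤ Nat.card X) : Nonempty (X ≃* MulAut K) := by
  let φ : X →* MulAut K := MulAut.conjNormal
  have hφ : Function.Injective φ := by
    rw [← MonoidHom.ker_eq_bot_iff, eq_bot_iff, ← hC]
    intro g hg
    rw [mem_centralizer_iff]
    intro t ht
    have h1 : φ g ⟨t, ht⟩ = ⟨t, ht⟩ := by
      rw [(MonoidHom.mem_ker).1 hg]; rfl
    have h2 : g * t * g⁻¹ = t := congrArg Subtype.val h1
    rw [mul_inv_eq_iff_eq_mul] at h2
    exact h2.symm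
  have hbij : Function.Bijective φ := hφ.bijective_of_nat_card_le hcard
  exact ⟨MulEquiv.ofBijective φ hbij⟩

/-- the order of `X` divides `|Aut K|` -/
theorem card_dvd_mulAut {X : Type u} [Group X] [Finite X] (K : Subgroup X) [K.Normal]
    (hC : centralizer (K : Set X) = ⊥) : Nat.card X ∣ Nat.card (MulAut K) := by
  let φ : X →* MulAut K := MulAut.conjNormal
  have hφ : Function.Injective φ := by
    rw [← MonoidHom.ker_eq_bot_iff, eq_bot_iff, ← hC]
    intro g hg
    rw [mem_centralizer_iff]
    intro t ht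
    have h1 : φ g ⟨t, ht⟩ = ⟨t, ht⟩ := by
      rw [(MonoidHom.mem_ker).1 hg]; rfl
    have h2 : g * t * g⁻¹ = t := congrArg Subtype.val h1
    rw [mul_inv_eq_iff_eq_mul] at h2
    exact h2.symm
  exact card_dvd_of_injective φ hφ

/-- **(T1)** -/
theorem iso_G2_two {X : Type u} [Group X] [Finite X] {K : Subgroup X} (hn : K.Normal)
    (hC : centralizer (K : Set X) = ⊥) {F : Type v} [Field F] [Fintype F] (hF : Fintype.card F = 9)
    (hK : Nonempty (K ≃* PSU 3 F 3)) (h64 : 64 ∣ Nat.card X) (F2 : Type w) [Field F2] [Fintype F2]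
    (hF2 : Fintype.card F2 = 2) : Nonempty (X ≃* ↥(Cfsg.Lie.chevG2.group F2)) := by
  obtain ⟨e⟩ := hK
  have hF' : Fintype.card F = 3 ^ 2 := by rw [hF]; norm_num
  have hcK : Nat.card K = 6048 := by
    rw [Nat.card_congr e.toEquiv, H597.HT6.card_psu33 hF']
  have hcA : Nat.card (MulAut K) = 12096 := by
    rw [Nat.card_congr (MulAut.congr e).toEquiv, H597.HT6.card_aut33 hF']
  -- `X = Aut K`
  have hcX : Nat.card X = 12096 := by
    have h1 : Nat.card X ∣ 12096 := by
      rw [← hcA]
      exact card_dvd_mulAut K hC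
    have h2 : 6048 ∣ Nat.card X := by
      rw [← hcK]
      exact card_subgroup_dvd_card K
    obtain ⟨a, ha⟩ := h2
    obtain ⟨c, hc⟩ := h64
    obtain ⟨d, hd⟩ := h1
    have hpos : 0 < Nat.card X := Nat.card_pos
    have ha2 : a ∣ 2 := by
      refine ⟨d, ?_⟩
      have : 6048 * 2 = 6048 * (a * d) := by
        calc 6048 * 2 = 12096 := by norm_num
          _ = Nat.card X * d := hd
          _ = 6048 * (a * d) := by rw [ha, mul_assoc]
      exact Nat.eq_of_mul_eq_mul_left (by norm_num) this
    have ha2' := Nat.le_of_dvd (by norm_num) ha2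
    interval_cases a
    · omega
    · omega
    · omega
  obtain ⟨f1⟩ := equiv_mulAut K hC (by rw [hcA, hcX])
  -- `G₂(2) = Aut (G₂(2)')`
  set Y := ↥(Cfsg.Lie.chevG2.group F2) with hY
  have hcY : Nat.card Y = 12096 := by
    rw [hY, S1059.result hF2]
    norm_num
  have hfin : Finite Y := Nat.finite_of_card_ne_zero (by rw [hcY]; norm_num)
  obtain ⟨e1⟩ := S1057.result (F := F2) (K := F) hF2 hF
  have hcc : Nat.card (commutator Y) = 6048 := by
    rw [Nat.card_congr e1.toEquiv, H597.HT6.card_psu33 hF']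
  have hS' : IsSimpleGroup (PSU 3 F 3) := S0283.result (q := 3) hF' 3 le_rfl (by norm_num)
  have hS : IsSimpleGroup (commutator Y) := e1.isSimpleGroup
  have hnc : ¬ IsMulCommutative (commutator Y) := by
    intro h5
    let _ : CommGroup (commutator Y) :=
      { (inferInstance : Group (commutator Y)) with mul_comm := h5.is_comm.comm }
    have h6 := IsSimpleGroup.prime_card (α := commutator Y)
    rw [hcc] at h6
    revert h6
    norm_num
  have hZ : center Y = ⊥ := S1077.center_group_eq_bot (K := F2) (D := Cfsg.Lie.chevG2) (by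
    simp [Cfsg.Agent.ChevalleyStructure.Elts.InList])
  have hCY : centralizer ((commutator Y : Subgroup Y) : Set Y) = ⊥ :=
    H753.GTwoCore.centralizer_eq_bot hS hnc hZ (by rw [hcY, hcc])
  have hcA' : Nat.card (MulAut (commutator Y)) = 12096 := by
    rw [Nat.card_congr (MulAut.congr e1).toEquiv, H597.HT6.card_aut33 hF']
  obtain ⟨f2⟩ := equiv_mulAut (commutator Y) hCY (by rw [hcA', hcY])
  exact ⟨f1.trans ((MulAut.congr (e.trans e1.symm)).trans f2.symm)⟩

end Cfsg.Agent.H412.G2
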